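import Mathlib

set_option autoImplicit false

namespace Groth.Agent.H5.SymSmooth

open TensorProduct KaehlerDifferential

universe u v

section FormallySmooth

variable {A : Type u} [CommRing A] {K : Type*} [AddCommGroup K] [Module A K]
  {S : Type v} [CommRing S] [Algebra A S] {ι : K →ₗ[A] S}

/-- The symmetric algebra of a projective module is formally smooth. -/
theorem formallySmooth_of_isSymmetricAlgebra (h : IsSymmetricAlgebra ι) [Module.Projective A K] :
    Algebra.FormallySmooth A S := by
  refine Algebra.FormallySmooth.of_comp_surjective ?_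
  intro B _ _ I _ g
  -- lift the linear map `K → B ⧸ I`
  obtain ⟨l, hl⟩ := Module.projective_lifting_property (Ideal.Quotient.mkₐ A I).toLinearMap
    (g.toLinearMap ∘ₗ ι) Ideal.Quotient.mk_surjective
  refine ⟨h.lift l, ?_⟩
  apply h.algHom_ext
  ext k
  have := LinearMap.congr_fun hl k
  simpa using this

end FormallySmooth

section Kaehler

variable {A : Type u} [CommRing A] {K : Type*} [AddCommGroup K] [Module A K]
  {S : Type v} [CommRing S] [Algebra A S] {ι : K →ₗ[A] S} (h : IsSymmetricAlgebra ι)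

/-- The algebra map `S → S ⊕ ε (S ⊗ K)`, `ι k ↦ ι k + ε (1 ⊗ k)`. -/
noncomputable def toTSZ : S →ₐ[A] TrivSqZeroExt S (S ⊗[A] K) :=
  h.lift ((TrivSqZeroExt.inlAlgHom A S (S ⊗[A] K)).toLinearMap ∘ₗ ι +
    ((TrivSqZeroExt.inrHom S (S ⊗[A] K)).restrictScalars A) ∘ₗ (TensorProduct.mk A S K 1))

lemma toTSZ_ι (k : K) :
    toTSZ h (ι k) = TrivSqZeroExt.inl (ι k) + TrivSqZeroExt.inr ((1 : S) ⊗ₜ[A] k) := by
  simp [toTSZ]

lemma fst_toTSZ (s : S) : (toTSZ h s).fst = s := by
  have : (TrivSqZeroExt.fstHom A S (S ⊗[A] K)).comp (toTSZ h) = AlgHom.id A S := by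
    apply h.algHom_ext
    ext k
    simp [toTSZ_ι]
  exact congrArg (fun f => f s) this

/-- The universal derivation of the symmetric algebra. -/
noncomputable def der : Derivation A S (S ⊗[A] K) where
  toLinearMap := ((TrivSqZeroExt.sndHom S (S ⊗[A] K)).restrictScalars A) ∘ₗ (toTSZ h).toLinearMap
  map_one_eq_zero' := by simp
  leibniz' a b := by
    simp only [LinearMap.comp_apply, AlgHom.toLinearMap_apply, map_mul,
      LinearMap.restrictScalars_apply, TrivSqZeroExt.sndHom_apply, TrivSqZeroExt.snd_mul,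
      fst_toTSZ, op_smul_eq_smul]

lemma der_apply (s : S) : der h s = (toTSZ h s).snd := rfl

lemma der_ι (k : K) : der h (ι k) = (1 : S) ⊗ₜ[A] k := by
  rw [der_apply, toTSZ_ι]
  simp

lemma inv_der (s : S) :
    LinearMap.liftBaseChange S ((D A S).toLinearMap ∘ₗ ι) (der h s) = D A S s := by
  induction s using h.induction with
  | algebraMap r => simp
  | ι k => simp [der_ι]
  | mul a b ha hb =>
    rw [Derivation.leibniz, Derivation.leibniz, map_add, map_smul, map_smul, ha, hb]
  | add a b ha hb => rw [map_add, map_add, map_add, ha, hb]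

/-- `Ω[Sym K / A] ≃ Sym K ⊗ K`. -/
noncomputable def kaehlerEquiv : Ω[S⁄A] ≃ₗ[S] S ⊗[A] K :=
  LinearEquiv.ofLinearMap (der h).liftKaehlerDifferential
    (LinearMap.liftBaseChange S ((D A S).toLinearMap ∘ₗ ι))
    (by
      ext k
      simp [der_ι])
    (by
      apply Derivation.liftKaehlerDifferential_unique
      ext s
      rw [Derivation.coe_comp, Derivation.coe_comp]
      simp [inv_der])

lemma kaehlerEquiv_D_ι (k : K) : kaehlerEquiv h (D A S (ι k)) = (1 : S) ⊗ₜ[A] k := by
  simp [kaehlerEquiv, der_ι]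

end Kaehler

end Groth.Agent.H5.SymSmooth
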