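import Mathlib
import Groth.Agent.Lib.Helper5.SymSmooth.A

set_option autoImplicit false

namespace Groth.Agent.H5.SymSmooth

open TensorProduct KaehlerDifferential

universe u v w

section Split

variable (R : Type w) [CommRing R] (A : Type u) [CommRing A] [Algebra R A]
  (S : Type v) [CommRing S] [Algebra A S] [Algebra R S] [IsScalarTower R A S]

/-- For `S` formally smooth over `A`, `Ω[S/R] ≃ (S ⊗ Ω[A/R]) × Ω[S/A]`. -/
theorem nonempty_kaehler_split [Algebra.FormallySmooth A S] :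
    Nonempty (Ω[S⁄R] ≃ₗ[S] (S ⊗[A] Ω[A⁄R]) × Ω[S⁄A]) := by
  have hex := KaehlerDifferential.exact_mapBaseChange_map R A S
  have hinj : Function.Injective (mapBaseChange R A S) := by
    rw [injective_iff_map_eq_zero]
    intro x hx
    obtain ⟨y, rfl⟩ := (Algebra.H1Cotangent.exact_δ_mapBaseChange R A S x).mp hx
    rw [Subsingleton.elim y 0, map_zero]
  have hsurj : Function.Surjective (KaehlerDifferential.map R A S S) :=
    KaehlerDifferential.map_surjective R A S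
  obtain ⟨l, hl⟩ := Module.projective_lifting_property (KaehlerDifferential.map R A S S)
    LinearMap.id hsurj
  exact ⟨(hex.splitSurjectiveEquiv hinj ⟨l, hl⟩).1⟩

end Split

section Main

variable {R : Type w} [CommRing R] {A : Type u} [CommRing A] [Algebra R A]
  {K : Type*} [AddCommGroup K] [Module A K]
  {S : Type v} [CommRing S] [Algebra A S] [Algebra R S] [IsScalarTower R A S]
  {ι : K →ₗ[A] S}

/-- If `Ω[A/R] × K` is free of rank `n`, so is `Ω[Sym K / R]`. -/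
theorem nonempty_kaehler_equiv_pi (h : IsSymmetricAlgebra ι) [Module.Projective A K]
    {ι' : Type*} [Fintype ι'] [DecidableEq ι']
    (e : (Ω[A⁄R] × K) ≃ₗ[A] (ι' → A)) :
    Nonempty (Ω[S⁄R] ≃ₗ[S] (ι' → S)) := by
  haveI := formallySmooth_of_isSymmetricAlgebra h
  obtain ⟨e1⟩ := nonempty_kaehler_split R A S
  let e2 : ((S ⊗[A] Ω[A⁄R]) × Ω[S⁄A]) ≃ₗ[S] ((S ⊗[A] Ω[A⁄R]) × (S ⊗[A] K)) :=
    LinearEquiv.prodCongr (LinearEquiv.refl S _) (kaehlerEquiv h)
  let e3 : (S ⊗[A] (Ω[A⁄R] × K)) ≃ₗ[S] ((S ⊗[A] Ω[A⁄R]) × (S ⊗[A] K)) :=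
    TensorProduct.prodRight A S S Ω[A⁄R] K
  let e4 : (S ⊗[A] (Ω[A⁄R] × K)) ≃ₗ[S] (S ⊗[A] (ι' → A)) :=
    TensorProduct.AlgebraTensorModule.congr (LinearEquiv.refl S S) e
  let e5 : (S ⊗[A] (ι' → A)) ≃ₗ[S] (ι' → S) := TensorProduct.piScalarRight A S S ι'
  exact ⟨e1.trans (e2.trans (e3.symm.trans (e4.trans e5)))⟩

end Main

end Groth.Agent.H5.SymSmooth
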