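import Mathlib
import Groth.Agent.Lib.Helper5.SymSmooth.B

set_option autoImplicit false

namespace Groth.Agent.H5.SymSmooth

open TensorProduct KaehlerDifferential MvPolynomial

universe u v w

section KerRetract

variable {A : Type u} [CommRing A] {S : Type v} [CommRing S] [Algebra A S] {n : ℕ}

/-- The kernel of a retraction from a polynomial ring is finitely generated. -/
theorem ker_eq_span_of_retract (q : MvPolynomial (Fin n) A →ₐ[A] S)
    (j : S →ₐ[A] MvPolynomial (Fin n) A) (hqj : ∀ s, q (j s) = s) :
    RingHom.ker (q : MvPolynomial (Fin n) A →+* S) =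
      Ideal.span (Set.range fun m : Fin n => (X m : MvPolynomial (Fin n) A) - j (q (X m))) := by
  set 𝔟 := Ideal.span (Set.range fun m : Fin n => (X m : MvPolynomial (Fin n) A) - j (q (X m)))
    with h𝔟
  apply le_antisymm
  · have key : ∀ p : MvPolynomial (Fin n) A, p - j (q p) ∈ 𝔟 := by
      intro p
      induction p using MvPolynomial.induction_on with
      | C a =>
        have : j (q (C a)) = C a := by
          rw [← MvPolynomial.algebraMap_eq, AlgHom.commutes, AlgHom.commutes]
        rw [this, sub_self]
        exact 𝔟.zero_mem
      | add p p' hp hp' =>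
        have : p + p' - j (q (p + p')) = (p - j (q p)) + (p' - j (q p')) := by
          rw [map_add, map_add]; ring
        rw [this]
        exact 𝔟.add_mem hp hp'
      | mul_X p m hp =>
        have : p * X m - j (q (p * X m)) = X m * (p - j (q p)) + j (q p) * (X m - j (q (X m))) := by
          rw [map_mul, map_mul]; ring
        rw [this]
        exact 𝔟.add_mem (𝔟.mul_mem_left _ hp)
          (𝔟.mul_mem_left _ (Ideal.subset_span ⟨m, rfl⟩))
    intro p hp
    have h0 : q p = 0 := hp
    have := key p
    rwa [h0, map_zero, sub_zero] at this
  · rw [Ideal.span_le]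
    rintro _ ⟨m, rfl⟩
    change q (X m - j (q (X m))) = 0
    rw [map_sub, hqj, sub_self]

end KerRetract

section FP

variable {A : Type u} [CommRing A] {K : Type*} [AddCommGroup K] [Module A K]
  {S : Type v} [CommRing S] [Algebra A S] {ι : K →ₗ[A] S}

/-- The symmetric algebra of a finite projective module is finitely presented. -/
theorem finitePresentation_of_isSymmetricAlgebra (h : IsSymmetricAlgebra ι)
    [Module.Finite A K] [Module.Projective A K] : Algebra.FinitePresentation A S := by
  classical
  obtain ⟨n, p, hp⟩ := Module.Finite.exists_fin' A K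
  obtain ⟨i, hi⟩ := Module.projective_lifting_property p LinearMap.id hp
  have hi' : ∀ k, p (i k) = k := fun k => LinearMap.congr_fun hi k
  let j : S →ₐ[A] MvPolynomial (Fin n) A :=
    h.lift ((Fintype.linearCombination A (fun m : Fin n => (X m : MvPolynomial (Fin n) A))) ∘ₗ i)
  let q : MvPolynomial (Fin n) A →ₐ[A] S :=
    aeval (fun m => ι (p (fun j => if m = j then 1 else 0)))
  have hqj : ∀ s, q (j s) = s := by
    have : q.comp j = AlgHom.id A S := by
      apply h.algHom_ext
      ext k
      change q (j (ι k)) = ι k
      rw [h.lift_eq]
      simp only [LinearMap.comp_apply, Fintype.linearCombination_apply, map_sum, map_smul, q,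
        aeval_X]
      conv_rhs => rw [← hi' k, LinearMap.pi_apply_eq_sum_univ p (i k), map_sum]
      simp only [map_smul]
    exact fun s => congrArg (fun f => f s) this
  have hsurj : Function.Surjective q := fun s => ⟨j s, hqj s⟩
  refine Algebra.FinitePresentation.of_surjective hsurj ?_
  change (RingHom.ker (q : MvPolynomial (Fin n) A →+* S)).FG
  rw [ker_eq_span_of_retract q j hqj]
  exact Submodule.fg_span (Set.finite_range _)

end FP

end Groth.Agent.H5.SymSmooth
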