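import Mathlib
import Groth.Agent.Lib.Helper5.SymSmooth.C

set_option autoImplicit false

namespace Groth.Agent.H5.SymSmooth

open TensorProduct KaehlerDifferential

universe u v w

section Core

variable {R : Type w} [CommRing R] {A : Type u} [CommRing A] [Algebra R A]
  {ι' : Type*} [Fintype ι'] [DecidableEq ι'] (x : ι' → A)

/-- The map `A^n → Ω[A/R]`, `e_i ↦ d x_i`. -/
noncomputable def piMap : (ι' → A) →ₗ[A] Ω[A⁄R] :=
  Fintype.linearCombination A (fun i => D R A (x i))

variable (R) in
lemma piMap_apply (c : ι' → A) : piMap (R := R) x c = ∑ i, c i • D R A (x i) := by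
  simp [piMap, Fintype.linearCombination_apply]

omit [DecidableEq ι'] in
lemma piMap_surjective (hx : Submodule.span A (Set.range fun i => D R A (x i)) = ⊤) :
    Function.Surjective (piMap (R := R) x) := by
  rw [← LinearMap.range_eq_top, piMap, Fintype.range_linearCombination, hx]

variable {x} (σ : Ω[A⁄R] →ₗ[A] (ι' → A)) (hσ : ∀ ω, piMap (R := R) x (σ ω) = ω)

/-- The projection onto the kernel of `piMap`. -/
noncomputable def rho : (ι' → A) →ₗ[A] LinearMap.ker (piMap (R := R) x) :=
  (LinearMap.id - σ ∘ₗ piMap (R := R) x).codRestrict _ (fun c => by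
    simp [hσ])

lemma rho_coe (c : ι' → A) : (rho σ hσ c : ι' → A) = c - σ (piMap (R := R) x c) := rfl

lemma rho_sigma (ω : Ω[A⁄R]) : rho σ hσ (σ ω) = 0 := by
  apply Subtype.ext
  simp [rho_coe, hσ]

lemma rho_ker (k : LinearMap.ker (piMap (R := R) x)) : rho σ hσ k.1 = k := by
  apply Subtype.ext
  have : piMap (R := R) x k.1 = 0 := k.2
  simp [rho_coe, this]

omit [DecidableEq ι'] in
lemma linearMap_eq_sum_single [DecidableEq ι'] {M : Type*} [AddCommGroup M] [Module A M]
    (f : (ι' → A) →ₗ[A] M) (c : ι' → A) : f c = ∑ i, c i • f (Pi.single i 1) := by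
  have : c = ∑ i, c i • (Pi.single i 1 : ι' → A) := by
    funext j
    simp [Finset.sum_apply, Pi.single_apply]
  conv_lhs => rw [this]
  simp only [map_sum, map_smul]

/-- The splitting `Ω × K ≃ A^n`. -/
noncomputable def splitEquiv :
    (Ω[A⁄R] × LinearMap.ker (piMap (R := R) x)) ≃ₗ[A] (ι' → A) where
  toFun p := σ p.1 + p.2.1
  map_add' p q := by simp; abel
  map_smul' a p := by simp
  invFun c := (piMap (R := R) x c, rho σ hσ c)
  left_inv p := by
    have h2 : piMap (R := R) x p.2.1 = 0 := p.2.2
    apply Prod.ext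
    · simp [hσ, h2]
    · apply Subtype.ext
      simp [rho_coe, hσ, h2]
  right_inv c := by
    simp [rho_coe]

include σ hσ in
lemma projective_ker : Module.Projective A (LinearMap.ker (piMap (R := R) x)) :=
  Module.Projective.of_split (Submodule.subtype _) (rho σ hσ) (by
    ext k : 1
    exact rho_ker σ hσ k)

end Core

end Groth.Agent.H5.SymSmooth
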