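import Mathlib
import Groth.Agent.Lib.Helper5.SymSmooth.D

set_option autoImplicit false

namespace Groth.Agent.H5.SymSmooth

open TensorProduct KaehlerDifferential

universe u v w

section Span

variable {R : Type w} [CommRing R] {A : Type u} [CommRing A] [Algebra R A]
  {ι' : Type*} [Fintype ι'] [DecidableEq ι'] {x : ι' → A}
  (σ : Ω[A⁄R] →ₗ[A] (ι' → A)) (hσ : ∀ ω, piMap (R := R) x (σ ω) = ω)
  {B0 : Type v} [CommRing B0] [Algebra A B0] [Algebra R B0] [IsScalarTower R A B0]
  {ι : LinearMap.ker (piMap (R := R) x) →ₗ[A] B0} (h : IsSymmetricAlgebra ι)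

/-- The augmentation of the symmetric algebra. -/
noncomputable def aug : B0 →ₐ[A] A := h.lift 0

lemma aug_ι (k : LinearMap.ker (piMap (R := R) x)) : aug h (ι k) = 0 := by
  simp [aug]

variable (ι) in
/-- The degree-one part of the coordinates. -/
noncomputable def tElt (i : ι') : B0 := ι (rho σ hσ (Pi.single i 1))

variable (ι) in
/-- The coordinates `s_i = x_i + t_i`. -/
noncomputable def sElt (i : ι') : B0 := algebraMap A B0 (x i) + tElt σ hσ ι i

lemma tElt_mem (i : ι') : tElt σ hσ ι i ∈ RingHom.ker (aug h : B0 →+* A) := by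
  rw [RingHom.mem_ker]
  exact aug_ι h _

lemma ι_rho (c : ι' → A) :
    ι (rho σ hσ c) = ∑ i, algebraMap A B0 (c i) * tElt σ hσ ι i := by
  have := linearMap_eq_sum_single (ι ∘ₗ rho σ hσ) c
  simp only [LinearMap.comp_apply] at this
  rw [this]
  refine Finset.sum_congr rfl fun i _ => ?_
  rw [Algebra.smul_def]
  rfl

lemma D_ι_rho (c : ι' → A) :
    D R B0 (ι (rho σ hσ c)) =
      ∑ i, (algebraMap A B0 (c i) • D R B0 (tElt σ hσ ι i) +
        tElt σ hσ ι i • D R B0 (algebraMap A B0 (c i))) := by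
  rw [ι_rho, map_sum]
  refine Finset.sum_congr rfl fun i _ => ?_
  rw [Derivation.leibniz]

/-- The submodule generated by the `d s_i` and `J Ω`. -/
noncomputable def Wsub : Submodule B0 Ω[B0⁄R] :=
  Submodule.span B0 (Set.range fun i => D R B0 (sElt σ hσ ι i)) ⊔
    (RingHom.ker (aug h : B0 →+* A)) • (⊤ : Submodule B0 Ω[B0⁄R])

lemma D_sElt_mem (i : ι') : D R B0 (sElt σ hσ ι i) ∈ Wsub σ hσ h :=
  Submodule.mem_sup_left (Submodule.subset_span ⟨i, rfl⟩)

lemma tElt_smul_mem (i : ι') (ω : Ω[B0⁄R]) : tElt σ hσ ι i • ω ∈ Wsub σ hσ h :=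
  Submodule.mem_sup_right (Submodule.smul_mem_smul (tElt_mem σ hσ h i) Submodule.mem_top)

lemma map_mem (ω : Ω[A⁄R]) : KaehlerDifferential.map R R A B0 ω ∈ Wsub σ hσ h := by
  set c := σ ω with hc
  have h0 : D R B0 (ι (rho σ hσ c)) = 0 := by rw [hc, rho_sigma, map_zero, map_zero]
  rw [D_ι_rho, Finset.sum_add_distrib] at h0
  have h1 : KaehlerDifferential.map R R A B0 ω =
      ∑ i, algebraMap A B0 (c i) • D R B0 (algebraMap A B0 (x i)) := by
    conv_lhs => rw [← hσ ω, piMap_apply, map_sum]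
    refine Finset.sum_congr rfl fun i _ => ?_
    rw [map_smul, KaehlerDifferential.map_D, algebraMap_smul]
  have h2 : ∀ i, D R B0 (algebraMap A B0 (x i)) =
      D R B0 (sElt σ hσ ι i) - D R B0 (tElt σ hσ ι i) := by
    intro i
    rw [sElt, map_add, add_sub_cancel_right]
  have h3 : KaehlerDifferential.map R R A B0 ω =
      ∑ i, algebraMap A B0 (c i) • D R B0 (sElt σ hσ ι i) +
        ∑ i, tElt σ hσ ι i • D R B0 (algebraMap A B0 (c i)) := by
    rw [h1]
    simp only [h2, smul_sub, Finset.sum_sub_distrib]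
    rw [sub_eq_add_neg, eq_neg_of_add_eq_zero_left h0, neg_neg]
  rw [h3]
  refine Submodule.add_mem _ (Submodule.sum_mem _ fun i _ => Submodule.smul_mem _ _ (D_sElt_mem σ hσ h i))
    (Submodule.sum_mem _ fun i _ => tElt_smul_mem σ hσ h i _)

lemma D_algebraMap_mem (a : A) : D R B0 (algebraMap A B0 a) ∈ Wsub σ hσ h := by
  rw [← KaehlerDifferential.map_D R R A B0]
  exact map_mem σ hσ h _

lemma D_tElt_mem (i : ι') : D R B0 (tElt σ hσ ι i) ∈ Wsub σ hσ h := by
  have : D R B0 (tElt σ hσ ι i) = D R B0 (sElt σ hσ ι i) - D R B0 (algebraMap A B0 (x i)) := by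
    rw [sElt, map_add, add_sub_cancel_left]
  rw [this]
  exact Submodule.sub_mem _ (D_sElt_mem σ hσ h i) (D_algebraMap_mem σ hσ h _)

lemma D_ι_mem (k : LinearMap.ker (piMap (R := R) x)) : D R B0 (ι k) ∈ Wsub σ hσ h := by
  rw [← rho_ker σ hσ k, D_ι_rho]
  exact Submodule.sum_mem _ fun i _ => Submodule.add_mem _
    (Submodule.smul_mem _ _ (D_tElt_mem σ hσ h i)) (tElt_smul_mem σ hσ h i _)

theorem Wsub_eq_top : Wsub σ hσ h = ⊤ := by
  rw [eq_top_iff, ← KaehlerDifferential.span_range_derivation, Submodule.span_le]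
  rintro _ ⟨b, rfl⟩
  induction b using h.induction with
  | algebraMap r => exact D_algebraMap_mem σ hσ h r
  | ι k => exact D_ι_mem σ hσ h k
  | mul a b ha hb =>
    rw [Derivation.leibniz]
    exact Submodule.add_mem _ (Submodule.smul_mem _ _ hb) (Submodule.smul_mem _ _ ha)
  | add a b ha hb =>
    rw [map_add]
    exact Submodule.add_mem _ ha hb

end Span

end Groth.Agent.H5.SymSmooth
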