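import Mathlib
import Groth.Agent.Lib.Helper5.SymSmooth.E

set_option autoImplicit false

namespace Groth.Agent.H5.SymSmooth

open TensorProduct KaehlerDifferential

universe u v w

section Loc

variable {R : Type w} [CommRing R]
  {B0 : Type v} [CommRing B0] [Algebra R B0]
  {ι' : Type*} [Fintype ι'] [DecidableEq ι'] (s : ι' → B0) (g : B0)
  (B : Type*) [CommRing B] [Algebra B0 B] [IsLocalization.Away g B] [Algebra R B]
  [IsScalarTower R B0 B]

/-- If `g Ω ⊆ span (d s_i)`, then the `d s_i` span `Ω` after inverting `g`. -/
theorem span_D_eq_top_of_away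
    (hg : ∀ ω : Ω[B0⁄R], g • ω ∈ Submodule.span B0 (Set.range fun i => D R B0 (s i))) :
    Submodule.span B (Set.range fun i => D R B (algebraMap B0 B (s i))) = ⊤ := by
  set NB := Submodule.span B (Set.range fun i => D R B (algebraMap B0 B (s i))) with hNB
  have hmap : ∀ n ∈ Submodule.span B0 (Set.range fun i => D R B0 (s i)),
      KaehlerDifferential.map R R B0 B n ∈ NB := by
    intro n hn
    induction hn using Submodule.span_induction with
    | mem y hy =>
      obtain ⟨i, rfl⟩ := hy
      rw [KaehlerDifferential.map_D]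
      exact Submodule.subset_span ⟨i, rfl⟩
    | zero => rw [map_zero]; exact NB.zero_mem
    | add a b _ _ ha hb => rw [map_add]; exact NB.add_mem ha hb
    | smul c a _ ha =>
      rw [map_smul, ← algebraMap_smul B c]
      exact NB.smul_mem _ ha
  haveI : IsLocalizedModule (Submonoid.powers g) (KaehlerDifferential.map R R B0 B) :=
    KaehlerDifferential.isLocalizedModule_map R B0 B (Submonoid.powers g)
  rw [eq_top_iff]
  intro y _
  obtain ⟨⟨m, t⟩, hmt⟩ := IsLocalizedModule.surj (Submonoid.powers g)
    (KaehlerDifferential.map R R B0 B) y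
  have h1 : KaehlerDifferential.map R R B0 B (g • m) ∈ NB := hmap _ (hg m)
  rw [map_smul, ← hmt, Submonoid.smul_def, ← mul_smul, ← algebraMap_smul B (g * (t : B0))] at h1
  have hu : IsUnit (algebraMap B0 B (g * (t : B0))) := by
    rw [map_mul]
    exact (IsLocalization.Away.algebraMap_isUnit g).mul
      (IsLocalization.map_units B t)
  obtain ⟨u, hu'⟩ := hu
  rw [← hu'] at h1
  exact (Submodule.smul_mem_iff_of_isUnit NB u.isUnit).mp h1

/-- A spanning family of the right size in `Ω`, free of that rank, is a basis. -/
theorem exists_basis_of_span_eq_top {M : Type*} [AddCommGroup M] [Module B M]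
    (e : M ≃ₗ[B] (ι' → B)) (v : ι' → M) (hv : Submodule.span B (Set.range v) = ⊤) :
    ∃ b : Module.Basis ι' B M, ∀ i, b i = v i := by
  let Φ : (ι' → B) →ₗ[B] M := Fintype.linearCombination B v
  have hsurj : Function.Surjective Φ := by
    rw [← LinearMap.range_eq_top, Fintype.range_linearCombination, hv]
  have hsurj' : Function.Surjective (e.toLinearMap ∘ₗ Φ) := e.surjective.comp hsurj
  have hinj' : Function.Injective (e.toLinearMap ∘ₗ Φ) :=
    OrzechProperty.injective_of_surjective_endomorphism _ hsurj'
  have hinj : Function.Injective Φ := by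
    intro a b hab
    exact hinj' (by simp [hab])
  refine ⟨Module.Basis.ofEquivFun (LinearEquiv.ofBijective Φ ⟨hinj, hsurj⟩).symm, fun i => ?_⟩
  simp [Module.Basis.ofEquivFun, Φ]

end Loc

end Groth.Agent.H5.SymSmooth
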