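import Mathlib
import Groth.Agent.Lib.Helper5.SymSmooth.F

set_option autoImplicit false

namespace Groth.Agent.H5.SymSmooth

open TensorProduct KaehlerDifferential

universe u

section T1

variable {R A : Type u} [CommRing R] [CommRing A] [Algebra R A] [Algebra.Smooth R A]
  {ι' : Type u} [Fintype ι'] [DecidableEq ι'] {x : ι' → A}
  (σ : Ω[A⁄R] →ₗ[A] (ι' → A)) (hσ : ∀ ω, piMap (R := R) x (σ ω) = ω)
  {B0 : Type u} [CommRing B0] [Algebra A B0] [Algebra R B0] [IsScalarTower R A B0]
  {ι : LinearMap.ker (piMap (R := R) x) →ₗ[A] B0} (h : IsSymmetricAlgebra ι)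

include σ hσ h in
theorem T1 [Module.Finite A (LinearMap.ker (piMap (R := R) x))] (g : B0)
    (hg1 : g - 1 ∈ RingHom.ker (aug h : B0 →+* A))
    (hg : ∀ ω : Ω[B0⁄R], g • ω ∈ Submodule.span B0 (Set.range fun i => D R B0 (sElt σ hσ ι i)))
    (B : Type u) [CommRing B] [Algebra B0 B] [IsLocalization.Away g B] [Algebra A B] [Algebra R B]
    [IsScalarTower A B0 B] [IsScalarTower R B0 B] [IsScalarTower R A B] :
    Algebra.Smooth A B ∧ Nonempty (B →ₐ[A] A) ∧ Algebra.IsStandardSmooth R B := by
  classical
  haveI : Module.Projective A (LinearMap.ker (piMap (R := R) x)) := projective_ker σ hσ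
  haveI : Algebra.FormallySmooth A B0 := formallySmooth_of_isSymmetricAlgebra h
  haveI : Algebra.FinitePresentation A B0 := finitePresentation_of_isSymmetricAlgebra h
  haveI : Algebra.Smooth A B0 := ⟨inferInstance, inferInstance⟩
  haveI : Algebra.Smooth B0 B := Algebra.Smooth.of_isLocalization_Away g
  haveI : Algebra.Smooth A B := Algebra.Smooth.comp A B0 B
  haveI : Algebra.Smooth R B := Algebra.Smooth.comp R A B
  refine ⟨inferInstance, ?_, ?_⟩
  · have haug : aug h g = 1 := by
      have : aug h (g - 1) = 0 := hg1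
      rwa [map_sub, map_one, sub_eq_zero] at this
    exact ⟨IsLocalization.Away.liftAlgHom (f := aug h) g (by rw [haug]; exact isUnit_one)⟩
  · have hspan := span_D_eq_top_of_away (R := R) (sElt σ hσ ι) g B hg
    obtain ⟨e0⟩ := nonempty_kaehler_equiv_pi (R := R) h (splitEquiv σ hσ)
    haveI : Algebra.FormallyEtale B0 B := Algebra.FormallyEtale.of_isLocalization (Submonoid.powers g)
    let e1 : B ⊗[B0] Ω[B0⁄R] ≃ₗ[B] Ω[B⁄R] := tensorKaehlerEquivOfFormallyEtale R B0 B
    let e2 : B ⊗[B0] Ω[B0⁄R] ≃ₗ[B] B ⊗[B0] (ι' → B0) :=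
      TensorProduct.AlgebraTensorModule.congr (LinearEquiv.refl B B) e0
    let e3 : B ⊗[B0] (ι' → B0) ≃ₗ[B] (ι' → B) := TensorProduct.piScalarRight B0 B B ι'
    obtain ⟨b, hb⟩ := exists_basis_of_span_eq_top B (e1.symm.trans (e2.trans e3))
      (fun i => D R B (algebraMap B0 B (sElt σ hσ ι i))) hspan
    refine Algebra.IsStandardSmooth.of_basis_kaehlerDifferential b ?_
    rintro _ ⟨i, rfl⟩
    exact ⟨_, (hb i).symm⟩

include σ hσ h in
theorem T2 [Module.Finite A (LinearMap.ker (piMap (R := R) x))] :
    ∃ (B : Type u) (_ : CommRing B) (_ : Algebra R B) (_ : Algebra A B) (_ : IsScalarTower R A B),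
      Algebra.Smooth A B ∧ Nonempty (B →ₐ[A] A) ∧ Algebra.IsStandardSmooth R B := by
  classical
  haveI : Module.Projective A (LinearMap.ker (piMap (R := R) x)) := projective_ker σ hσ
  haveI : Algebra.FormallySmooth A B0 := formallySmooth_of_isSymmetricAlgebra h
  haveI : Algebra.FinitePresentation A B0 := finitePresentation_of_isSymmetricAlgebra h
  haveI : Algebra.Smooth A B0 := ⟨inferInstance, inferInstance⟩
  haveI : Algebra.Smooth R B0 := Algebra.Smooth.comp R A B0
  have hW := Wsub_eq_top σ hσ h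
  obtain ⟨g, hg1, hgle⟩ := Submodule.exists_sub_one_mem_and_smul_le_of_fg_of_le_sup
    (I := RingHom.ker (aug h : B0 →+* A))
    (N := Submodule.span B0 (Set.range fun i => D R B0 (sElt σ hσ ι i)))
    (N' := (⊤ : Submodule B0 Ω[B0⁄R])) (P := ⊤) Module.Finite.fg_top le_rfl
    (le_of_eq hW.symm)
  have hg : ∀ ω : Ω[B0⁄R], g • ω ∈ Submodule.span B0 (Set.range fun i => D R B0 (sElt σ hσ ι i)) :=
    fun ω => hgle (Submodule.smul_mem_pointwise_smul ω g ⊤ Submodule.mem_top)
  haveI : IsScalarTower R A (Localization.Away g) := IsScalarTower.of_algebraMap_eq (fun r => by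
    rw [IsScalarTower.algebraMap_apply R B0 (Localization.Away g),
      IsScalarTower.algebraMap_apply A B0 (Localization.Away g),
      IsScalarTower.algebraMap_apply R A B0])
  exact ⟨Localization.Away g, inferInstance, inferInstance, inferInstance, inferInstance,
    T1 σ hσ h g hg1 hg (Localization.Away g)⟩

end T1

/-- Elkik's trick: a smooth algebra becomes standard smooth after passing to a smooth algebra with
a retraction. -/
theorem exists_isStandardSmooth_retraction {R A : Type u} [CommRing R] [CommRing A]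
    [Algebra R A] [Algebra.Smooth R A] :
    ∃ (B : Type u) (_ : CommRing B) (_ : Algebra R B) (_ : Algebra A B) (_ : IsScalarTower R A B),
      Algebra.Smooth A B ∧ Nonempty (B →ₐ[A] A) ∧ Algebra.IsStandardSmooth R B := by
  classical
  -- Step 1: a finite family whose differentials span
  have hfg : (⊤ : Submodule A Ω[A⁄R]).FG := Module.Finite.fg_top
  rw [← KaehlerDifferential.span_range_derivation R A] at hfg
  obtain ⟨s', hs'sub, hs'span⟩ := (Submodule.fg_span_iff_fg_span_finset_subset _).mp hfg
  have hch : ∀ i : s', ∃ a : A, D R A a = i.1 := fun i => hs'sub i.2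
  choose x hx using hch
  have hxspan : Submodule.span A (Set.range fun i : s' => D R A (x i)) = ⊤ := by
    have : (Set.range fun i : s' => D R A (x i)) = (s' : Set Ω[A⁄R]) := by
      ext y
      constructor
      · rintro ⟨i, rfl⟩
        change D R A (x i) ∈ _
        rw [hx]
        exact i.2
      · intro hy
        exact ⟨⟨y, hy⟩, hx _⟩
    rw [this, ← hs'span, KaehlerDifferential.span_range_derivation]
  -- Step 2: splitting
  obtain ⟨σ, hσ'⟩ := Module.projective_lifting_property (piMap (R := R) x) LinearMap.id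
    (piMap_surjective x hxspan)
  have hσ : ∀ ω, piMap (R := R) x (σ ω) = ω := fun ω => LinearMap.congr_fun hσ' ω
  haveI : Module.Finite A (LinearMap.ker (piMap (R := R) x)) :=
    Module.Finite.of_surjective (rho σ hσ) (fun k => ⟨k.1, rho_ker σ hσ k⟩)
  exact T2 σ hσ (B0 := SymmetricAlgebra A (LinearMap.ker (piMap (R := R) x)))
    (ι := SymmetricAlgebra.ι A _) SymmetricAlgebra.isSymmetricAlgebra_ι

end Groth.Agent.H5.SymSmooth
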